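import Cfsg.Agent.Lib.Golay.Cocode.Theta
import Cfsg.Prelude.Def_Spor_Mathieu

/-!
An extension of the point stabiliser of the code's automorphism group by the module of even linear
functionals on the code, made from `theta`.
-/

set_option autoImplicit false

namespace CfsgLib.Golay.Cocode

open Cfsg

abbrev CV : Type := ↥golayCode

theorem two_zero : (2 : ZMod 2) = 0 := by decide

theorem one_mem : (1 : Word) ∈ golayCode := Submodule.subset_span (Or.inr rfl)

/-- the all-ones word -/
def om : CV := ⟨1, one_mem⟩

/-- a permutation of the point stabiliser acting on the code -/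
noncomputable def act (π : ↥Spor.M23) (x : CV) : CV :=
  ⟨fun p => x.1 ((π : Equiv.Perm GolayPt).symm p), comp_symm_mem π.2.1 x.2⟩

theorem act_apply (π : ↥Spor.M23) (x : CV) (p : GolayPt) :
    (act π x).1 p = x.1 ((π : Equiv.Perm GolayPt).symm p) := rfl

theorem act_one (x : CV) : act 1 x = x := rfl

theorem act_mul (a b : ↥Spor.M23) (x : CV) : act (a * b) x = act a (act b x) := rfl

theorem act_inv_act (a : ↥Spor.M23) (x : CV) : act a⁻¹ (act a x) = x := by
  rw [← act_mul, inv_mul_cancel, act_one]

theorem act_act_inv (a : ↥Spor.M23) (x : CV) : act a (act a⁻¹ x) = x := by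
  rw [← act_mul, mul_inv_cancel, act_one]

theorem act_add (a : ↥Spor.M23) (x y : CV) : act a (x + y) = act a x + act a y := rfl

theorem act_om (a : ↥Spor.M23) : act a om = om := rfl

theorem fix_none (π : ↥Spor.M23) : (π : Equiv.Perm GolayPt) none = none :=
  MulAction.mem_stabilizer_iff.1 π.2.2

/-- the cocycle -/
noncomputable def gf (π : ↥Spor.M23) (x y : CV) : ZMod 2 :=
  theta (act π x).1 (act π y).1 + theta x.1 y.1

theorem gf_add_left (π : ↥Spor.M23) (x x' y : CV) : gf π (x + x') y = gf π x y + gf π x' y := by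
  simp only [gf, act_add, Submodule.coe_add, theta_add_left]; abel

theorem tri_act (π : ↥Spor.M23) (x y z : CV) :
    tri (act π x).1 (act π y).1 (act π z).1 = tri x.1 y.1 z.1 :=
  Equiv.sum_comp (π : Equiv.Perm GolayPt).symm (fun p => x.1 p * y.1 p * z.1 p)

theorem gf_add_right (π : ↥Spor.M23) (x y y' : CV) : gf π x (y + y') = gf π x y + gf π x y' := by
  simp only [gf, act_add, Submodule.coe_add, theta_add_right, red_of_mem x.2, red_of_mem y.2,
    red_of_mem y'.2, red_of_mem (act π x).2, red_of_mem (act π y).2, red_of_mem (act π y').2,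
    tri_act]
  linear_combination (tri x.1 y.1 y'.1) * two_zero

theorem gf_self (π : ↥Spor.M23) (x : CV) : gf π x x = 0 := by
  have h : four (theta (act π x).1 (act π x).1) = four (theta x.1 x.1) := by
    rw [four_theta_self (act π x).2, four_theta_self x.2]
    exact Equiv.sum_comp (π : Equiv.Perm GolayPt).symm (fun p => lift8 (x.1 p))
  have key : ∀ a b, four a = four b → a + b = 0 := by decide
  exact key _ _ h

theorem gf_comm (π : ↥Spor.M23) (x y : CV) : gf π x y = gf π y x := by
  have h := gf_self π (x + y)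
  rw [gf_add_left, gf_add_right, gf_add_right, gf_self, gf_self] at h
  exact (show ∀ a b : ZMod 2, 0 + a + (b + 0) = 0 → a = b by decide) _ _ h

/-- a point of the extension -/
@[ext] structure Ext : Type where
  p : ↥Spor.M23
  f : CV → ZMod 2
  diff : ∀ x y, f (x + y) = f x + f y + gf p x y
  fix : f om = 0

theorem gf_mul (a b : ↥Spor.M23) (x y : CV) : gf (a * b) x y = gf b x y + gf a (act b x) (act b y) := by
  simp only [gf, act_mul]
  linear_combination -(theta (act b x).1 (act b y).1) * two_zero

noncomputable instance : Mul Ext where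
  mul e d := ⟨e.p * d.p, fun x => d.f x + e.f (act d.p x),
    fun x y => by rw [act_add, e.diff, d.diff, gf_mul]; abel,
    by rw [act_om, d.fix, e.fix, add_zero]⟩

noncomputable instance : One Ext where
  one := ⟨1, fun _ => 0, fun x y => by
    simp only [gf, act_one]
    linear_combination -(theta x.1 y.1) * two_zero, rfl⟩

noncomputable instance : Inv Ext where
  inv e := ⟨e.p⁻¹, fun x => e.f (act e.p⁻¹ x), fun x y => by
      rw [act_add, e.diff]
      simp only [gf, act_act_inv]
      abel,
    by rw [act_om, e.fix]⟩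

theorem mul_p (e d : Ext) : (e * d).p = e.p * d.p := rfl

theorem mul_f (e d : Ext) (x : CV) : (e * d).f x = d.f x + e.f (act d.p x) := rfl

theorem inv_p (e : Ext) : e⁻¹.p = e.p⁻¹ := rfl

theorem inv_f (e : Ext) (x : CV) : e⁻¹.f x = e.f (act e.p⁻¹ x) := rfl

noncomputable instance : Group Ext := Group.ofLeftAxioms
  (fun a b c => Ext.ext (mul_assoc _ _ _) (funext fun x => by
    simp only [mul_f, mul_p, act_mul]; abel))
  (fun a => Ext.ext (one_mul _) (funext fun x => add_zero _))
  (fun a => Ext.ext (inv_mul_cancel _) (funext fun x => by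
    rw [mul_f, inv_f, act_inv_act]
    exact CharTwo.add_self_eq_zero _))

instance : Finite Ext :=
  Finite.of_injective (fun e => (e.p, e.f)) fun a b h => by
    rw [Prod.mk.injEq] at h; exact Ext.ext h.1 h.2

/-- the projection -/
noncomputable def proj : Ext →* ↥Spor.M23 where
  toFun e := e.p
  map_one' := rfl
  map_mul' _ _ := rfl

/-- coordinates on the code -/
noncomputable def rowC (i : Fin 12) : CV := ⟨row i, row_mem i⟩

theorem cv_expand (x : CV) : x = ∑ i, co i x.1 • rowC i := by
  apply Subtype.ext
  rw [Submodule.coe_sum]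
  exact (red_of_mem x.2).symm

theorem biadd_expand {φ : CV → CV → ZMod 2} (hl : ∀ x x' y, φ (x + x') y = φ x y + φ x' y)
    (hr : ∀ x y y', φ x (y + y') = φ x y + φ x y') (x y : CV) :
    φ x y = ∑ i, ∑ j, co i x.1 * co j y.1 * φ (rowC i) (rowC j) := by
  let F : CV →+ CV →+ ZMod 2 := AddMonoidHom.mk' (fun x => AddMonoidHom.mk' (φ x) (hr x))
    (fun a b => AddMonoidHom.ext (hl a b))
  have hs : ∀ (c : ZMod 2) (v : CV), ∀ G : CV →+ ZMod 2, G (c • v) = c * G v := by
    intro c v G
    rcases (show c = 0 ∨ c = 1 by revert c; decide) with rfl | rfl <;> simp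
  have hx : F x y = ∑ i, co i x.1 * F (rowC i) y := by
    conv_lhs => rw [cv_expand x]
    rw [map_sum, AddMonoidHom.finsetSum_apply]
    exact Finset.sum_congr rfl fun i _ => hs _ _ (F.flip y)
  refine hx.trans (Finset.sum_congr rfl fun i _ => ?_)
  conv_lhs => rw [cv_expand y]
  rw [map_sum, Finset.mul_sum]
  exact Finset.sum_congr rfl fun j _ => by rw [hs _ _ (F (rowC i)), mul_assoc]; rfl

theorem proj_surjective : Function.Surjective proj := by
  intro π
  let G : Fin 12 → Fin 12 → ZMod 2 := fun i j => if i < j then gf π (rowC i) (rowC j) else 0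
  let f0 : CV → ZMod 2 := fun x => ∑ i, ∑ j, co i x.1 * co j x.1 * G i j
  have hG : ∀ i j, G i j + G j i = gf π (rowC i) (rowC j) := by
    intro i j
    rcases lt_trichotomy i j with h | rfl | h
    · simp [G, h, h.not_gt]
    · simp [G, gf_self]
    · simp [G, h, h.not_gt, gf_comm π (rowC i)]
  have hd : ∀ x y, f0 (x + y) = f0 x + f0 y + gf π x y := by
    intro x y
    rw [biadd_expand (gf_add_left π) (gf_add_right π) x y]
    simp only [f0, ← hG, Submodule.coe_add, map_add]
    have h := quad_add (fun j => co j x.1) (fun j => co j y.1) (fun _ => 0) G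
    simpa using h
  refine ⟨⟨π, fun x => f0 x + f0 om * x.1 none, fun x y => ?_, ?_⟩, rfl⟩
  · rw [hd]
    simp only [Submodule.coe_add, Pi.add_apply, mul_add]
    abel
  · rw [show (om : CV).1 none = 1 from rfl, mul_one]
    exact CharTwo.add_self_eq_zero _

end CfsgLib.Golay.Cocode
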