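import Cfsg.Agent.Lib.Golay.Cocode.Group

/-!
The kernel of the projection is the module of the words modulo the code and the extra point.
-/

set_option autoImplicit false
set_option maxHeartbeats 200000

namespace CfsgLib.Golay.Cocode

open Cfsg

/-- pairing of words -/
def dot (x w : Word) : ZMod 2 := ∑ p, x p * w p

theorem dot_add_right (x v w : Word) : dot x (v + w) = dot x v + dot x w := by
  simp [dot, mul_add, Finset.sum_add_distrib]

theorem dot_add_left (x y w : Word) : dot (x + y) w = dot x w + dot y w := by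
  simp [dot, add_mul, Finset.sum_add_distrib]

theorem gf_base (x y : CV) : gf 1 x y = 0 := by
  simp only [gf, act_one]
  linear_combination (theta x.1 y.1) * two_zero

/-- the functional of a word -/
def lam (w : Word) (x : CV) : ZMod 2 := dot x.1 w + dot 1 w * x.1 none

theorem lam_eq_dot (w : Word) (x : CV) :
    lam w x = dot x.1 (w + dot 1 w • (Pi.single none 1 : Word)) := by
  have h : ∀ c : ZMod 2, dot x.1 (c • (Pi.single none 1 : Word)) = c * x.1 none := fun c => by
    simp [dot, Pi.single_apply, mul_comm]
  rw [dot_add_right, h, lam]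

theorem lam_ext (w : Word) : ∃ e : Ext, e.p = 1 ∧ e.f = lam w :=
  ⟨⟨1, lam w, fun x y => by
      simp only [lam, Submodule.coe_add, dot_add_left, Pi.add_apply, gf_base]; ring,
    by
      show dot 1 w + dot 1 w * 1 = 0
      rw [mul_one]; exact CharTwo.add_self_eq_zero _⟩, rfl, rfl⟩

/-- the element of a word -/
noncomputable def lamE (w : Word) : Ext := (lam_ext w).choose

theorem lamE_p (w : Word) : (lamE w).p = 1 := (lam_ext w).choose_spec.1

theorem lamE_f (w : Word) : (lamE w).f = lam w := (lam_ext w).choose_spec.2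

theorem lamE_add (v w : Word) : lamE (v + w) = lamE v * lamE w := by
  apply Ext.ext
  · rw [mul_p, lamE_p, lamE_p, lamE_p, one_mul]
  · funext x
    rw [mul_f, lamE_p, act_one, lamE_f, lamE_f, lamE_f]
    simp only [lam, dot_add_right]
    ring

/-- the map from words onto the kernel -/
noncomputable def toKer : Word →+ Additive ↥proj.ker :=
  AddMonoidHom.mk' (fun w => Additive.ofMul ⟨lamE w, MonoidHom.mem_ker.2 (lamE_p w)⟩)
    fun v w => congrArg Additive.ofMul (Subtype.ext (lamE_add v w))

theorem toKer_coe (w : Word) : ((toKer w).toMul : Ext) = lamE w := rfl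

theorem hi_cert : ∀ p : GolayPt, 12 ≤ idx p → ∃ m ∈ [5279, 10558, 18147, 36294, 69395, 133817, 262637,
    525274, 1050548, 2101096, 4196943, 8391797], inC m = true ∧
      ∀ q : GolayPt, 12 ≤ idx q → wd m q = if q = p then 1 else 0 := by decide +kernel

theorem mem_of_orth {w : Word} (h : ∀ x : CV, dot x.1 w = 0) : w ∈ golayCode := by
  have hz : ∀ x : CV, dot x.1 (w + red w) = 0 := fun x => by
    rw [dot_add_right, h, zero_add]; exact dot_eq_zero x.2 (red_mem w)
  have low : ∀ i : Fin 12, co i (w + red w) = 0 := fun i => by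
    rw [map_add, co_red]; exact CharTwo.add_self_eq_zero _
  have zero : w + red w = 0 := by
    funext p
    by_cases hp : 12 ≤ idx p
    · obtain ⟨m, -, hm, hq⟩ := hi_cert p hp
      have := hz ⟨wd m, wd_mem_of_inC hm⟩
      rw [dot, Finset.sum_eq_single p] at this
      · simpa [hq p hp] using this
      · intro q _ hne
        by_cases hq' : 12 ≤ idx q
        · simp [hq q hq', hne]
        · have := low ⟨idx q, by omega⟩
          rw [co_apply, pt_idx] at this
          rw [this, mul_zero]
      · simp
    · have := low ⟨idx p, by omega⟩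
      rwa [co_apply, pt_idx] at this
  rw [show w = red w from by rwa [← CharTwo.add_eq_zero]]
  exact red_mem w

theorem toKer_eq_zero (w : Word) :
    toKer w = 0 ↔ (w ∈ golayCode ∨ w + Pi.single none 1 ∈ golayCode) := by
  have h1 : toKer w = 0 ↔ ∀ x, lam w x = 0 := by
    constructor
    · intro h x
      have := congrArg (fun a : Additive ↥proj.ker => (a.toMul : Ext).f x) h
      simp only [toKer_coe, lamE_f] at this
      exact this
    · intro h
      apply Additive.toMul.injective
      apply Subtype.ext
      rw [toKer_coe]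
      exact Ext.ext (lamE_p w) (by rw [lamE_f]; funext x; exact h x)
  rw [h1]
  have e1 : dot 1 (Pi.single none 1) = 1 := by simp [dot, Pi.single_apply]
  constructor
  · intro h
    have hm := mem_of_orth (w := w + dot 1 w • (Pi.single none 1 : Word))
      fun x => by rw [← lam_eq_dot]; exact h x
    rcases (show ∀ c : ZMod 2, c = 0 ∨ c = 1 by decide) (dot 1 w) with hc | hc
    · left; simpa [hc] using hm
    · right; rwa [hc, one_smul] at hm
  · rintro (hm | hm) x
    · have : dot 1 w = 0 := dot_eq_zero one_mem hm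
      rw [lam, this, zero_mul, add_zero]; exact dot_eq_zero x.2 hm
    · have h0 : dot 1 (w + Pi.single none 1) = 0 := dot_eq_zero one_mem hm
      rw [dot_add_right, e1] at h0
      have : dot 1 w = 1 := (show ∀ c : ZMod 2, c + 1 = 0 → c = 1 by decide) _ h0
      rw [lam_eq_dot, this, one_smul]; exact dot_eq_zero x.2 hm

theorem toKer_surjective : Function.Surjective toKer := by
  intro n
  obtain ⟨⟨⟨p, f, hd, hf⟩, hp⟩, rfl⟩ := Additive.ofMul.surjective n
  have hp' : p = 1 := MonoidHom.mem_ker.1 hp
  subst hp'
  let L : CV →+ ZMod 2 := AddMonoidHom.mk' f fun x y => by rw [hd, gf_base, add_zero]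
  let w : Word := ∑ i : Fin 12, f (rowC i) • (Pi.single (pt i.val) 1 : Word)
  have hw : ∀ x : CV, dot x.1 w = f x := by
    intro x
    have h1 : f x = ∑ i, co i x.1 * f (rowC i) := by
      show L x = _
      conv_lhs => rw [cv_expand x]
      rw [map_sum]
      refine Finset.sum_congr rfl fun i _ => ?_
      rcases (show ∀ c : ZMod 2, c = 0 ∨ c = 1 by decide) (co i x.1) with hc | hc
      · simp [hc]
      · rw [hc, one_smul, one_mul]; rfl
    rw [h1, dot]
    simp only [w, Finset.sum_apply, Pi.smul_apply, smul_eq_mul, Finset.mul_sum]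
    rw [Finset.sum_comm]
    refine Finset.sum_congr rfl fun i _ => ?_
    simp [Pi.single_apply, co_apply, mul_comm]
  refine ⟨w, ?_⟩
  apply Additive.toMul.injective
  apply Subtype.ext
  rw [toKer_coe]
  refine Ext.ext (lamE_p w) ?_
  funext x
  rw [lamE_f, lam, hw]
  have : dot 1 w = 0 := (hw om).trans hf
  simp [this]

theorem toKer_conj (g : Ext) (w : Word) :
    lamE (w ∘ ⇑((g.p : Equiv.Perm GolayPt)⁻¹)) = g * lamE w * g⁻¹ := by
  apply Ext.ext
  · rw [mul_p, mul_p, lamE_p, lamE_p, mul_one, inv_p, mul_inv_cancel]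
  · funext x
    rw [mul_f, mul_f, inv_f, lamE_p, act_one, lamE_f, lamE_f, inv_p]
    have hd : ∀ v : Word, dot v (w ∘ ⇑((g.p : Equiv.Perm GolayPt)⁻¹))
        = dot (fun p => v ((g.p : Equiv.Perm GolayPt) p)) w := by
      intro v
      refine ((Equiv.sum_comp (g.p : Equiv.Perm GolayPt)
        (fun p => v p * (w ∘ ⇑((g.p : Equiv.Perm GolayPt)⁻¹)) p)).symm).trans ?_
      simp [dot]
    have hx : (act g.p⁻¹ x).1 = fun p => x.1 ((g.p : Equiv.Perm GolayPt) p) := by
      funext p; rw [act_apply, InvMemClass.coe_inv]; rfl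
    simp only [lam, hd, hx, fix_none, Pi.one_apply]
    linear_combination -(g.f (act g.p⁻¹ x)) * two_zero


end CfsgLib.Golay.Cocode
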