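import Cfsg.Agent.Lib.Golay.Cocode.Module

/-!
The extension has no complement: two lifts cannot satisfy a relation of a subgroup of order 16.
-/

set_option autoImplicit false

namespace CfsgLib.Golay.Cocode

open Cfsg

/-- an involution -/
def pU : ℕ := 967936940908776496279098661363893294

/-- an element of order four -/
def pV : ℕ := 957502810428335938755965427870550537

theorem pU_ok : inM24 pU = true ∧ ap pU 23 = 23 := by decide +kernel

theorem pV_ok : inM24 pV = true ∧ ap pV 23 = 23 := by decide +kernel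

theorem toPerm_mem_M23 {P : ℕ} (h : inM24 P = true ∧ ap P 23 = 23) : toPerm P ∈ Spor.M23 := by
  refine ⟨toPerm_mem_M24 h.1, MulAction.mem_stabilizer_iff.2 ?_⟩
  show toPerm P none = none
  have hv : validP P = true := by
    have := h.1; simp only [inM24, Bool.and_eq_true] at this; exact this.1
  rw [toPerm_apply hv, show idx none = 23 from rfl, h.2]
  rfl

/-- the code word of a mask -/
def cw (m : ℕ) (h : inC m = true) : CV := ⟨wd m, wd_mem_of_inC h⟩

theorem act_cw {P m n : ℕ} (h : inM24 P = true ∧ ap P 23 = 23) (hm : inC m = true)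
    (hn : inC n = true) (e : mimg P m = n) :
    act ⟨toPerm P, toPerm_mem_M23 h⟩ (cw m hm) = cw n hn := by
  apply Subtype.ext
  have hv : validP P = true := by
    have := h.1; simp only [inM24, Bool.and_eq_true] at this; exact this.1
  funext p
  rw [act_apply]
  exact congrFun ((wd_comp_toPerm hv m).trans (congrArg wd e)) p

theorem inC_mimg {P m : ℕ} (h : inM24 P = true ∧ ap P 23 = 23) (hm : inC m = true) :
    inC (mimg P m) = true := by
  have hv : validP P = true := by
    have := h.1; simp only [inM24, Bool.and_eq_true] at this; exact this.1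
  have := comp_symm_mem (toPerm_mem_M24 h.1) (wd_mem_of_inC hm)
  rw [wd_comp_toPerm hv] at this
  exact (wd_mem_iff (mimg_lt hv m)).1 this

theorem cw_add {a b c : ℕ} (ha : inC a = true) (hb : inC b = true) (hc : inC c = true)
    (e : a ^^^ b = c) : cw a ha + cw b hb = cw c hc := by
  apply Subtype.ext
  show wd a + wd b = wd c
  rw [← wd_xor, e]

theorem f_zero (e : Ext) : e.f 0 = 0 := by
  have h := e.diff 0 0
  rw [add_zero, gf_self, add_zero] at h
  exact h.trans (CharTwo.add_self_eq_zero _)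

/-- the sum of the values at four dependent words -/
theorem four_values (e : Ext) (a b c d : CV) (h : a + b + c + d = 0) :
    e.f a + e.f b + e.f c + e.f d
      = gf e.p a b + gf e.p (a + b) c + gf e.p (a + b + c) d := by
  have h0 := f_zero e
  rw [← h, e.diff, e.diff, e.diff] at h0
  linear_combination h0 - (gf e.p a b + gf e.p (a + b) c + gf e.p (a + b + c) d) * two_zero

theorem no_relation (eu ev : Ext) (hu : eu.p = ⟨toPerm pU, toPerm_mem_M23 pU_ok⟩)
    (hv : ev.p = ⟨toPerm pV, toPerm_mem_M23 pV_ok⟩) : eu * ev * eu ≠ ev * eu * ev * eu * ev := by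
  intro h
  have C0 : inC 13062145 = true := by decide +kernel
  have C1 : inC 8675909 = true := by decide +kernel
  have C2 : inC 8925710 = true := by decide +kernel
  have C3 : inC 13303882 = true := by decide +kernel
  have Cs : inC (13062145 ^^^ 8675909) = true := inC_xor C0 C1
  have Ct : inC (13062145 ^^^ 8675909 ^^^ 8925710) = true := inC_xor Cs C2
  have Ct' : inC (8675909 ^^^ 13062145 ^^^ 13303882) = true := inC_xor (inC_xor C1 C0) C3
  set x := cw 13062145 C0 with hxdef
  have hf := congrArg (fun e : Ext => e.f x) h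
  simp only [mul_f, hu, hv] at hf
  have e1 : mimg pU 13062145 = 8675909 := by decide +kernel
  have e2 : mimg pV 8675909 = 8675909 := by decide +kernel
  have e3 : mimg pV 13062145 = 8925710 := by decide +kernel
  have e4 : mimg pU 8925710 = 13303882 := by decide +kernel
  have e5 : mimg pV 13303882 = 13303882 := by decide +kernel
  have e6 : mimg pU 13303882 = 8925710 := by decide +kernel
  rw [hxdef, act_cw pU_ok C0 C1 e1, act_cw pV_ok C1 C1 e2, act_cw pV_ok C0 C2 e3,
    act_cw pU_ok C2 C3 e4, act_cw pV_ok C3 C3 e5, act_cw pU_ok C3 C2 e6] at hf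
  have ku := four_values eu (cw _ C0) (cw _ C1) (cw _ C2) (cw _ C3) (by
    rw [cw_add C0 C1 Cs rfl, cw_add Cs C2 Ct rfl, cw_add Ct C3 (c := 0) (by decide) (by decide +kernel)]
    exact Subtype.ext wd_zero)
  have kv := four_values ev (cw _ C1) (cw _ C0) (cw _ C3) (cw _ C2) (by
    rw [cw_add C1 C0 (inC_xor C1 C0) rfl, cw_add _ C3 Ct' rfl,
      cw_add Ct' C2 (c := 0) (by decide) (by decide +kernel)]
    exact Subtype.ext wd_zero)
  rw [hu, cw_add C0 C1 Cs rfl, cw_add Cs C2 Ct rfl] at ku
  rw [hv, cw_add C1 C0 (inC_xor C1 C0) rfl, cw_add _ C3 Ct' rfl] at kv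
  have gu : gf ⟨toPerm pU, toPerm_mem_M23 pU_ok⟩ (cw _ C0) (cw _ C1)
      + gf ⟨toPerm pU, toPerm_mem_M23 pU_ok⟩ (cw _ Cs) (cw _ C2)
      + gf ⟨toPerm pU, toPerm_mem_M23 pU_ok⟩ (cw _ Ct) (cw _ C3) = 0 := by
    simp only [gf, act_cw pU_ok C0 (inC_mimg pU_ok C0) rfl, act_cw pU_ok C1 (inC_mimg pU_ok C1) rfl, act_cw pU_ok Cs (inC_mimg pU_ok Cs) rfl, act_cw pU_ok C2 (inC_mimg pU_ok C2) rfl, act_cw pU_ok Ct (inC_mimg pU_ok Ct) rfl, act_cw pU_ok C3 (inC_mimg pU_ok C3) rfl]
    unfold theta
    simp only [co_apply, cw]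
    decide +kernel
  have gv : gf ⟨toPerm pV, toPerm_mem_M23 pV_ok⟩ (cw _ C1) (cw _ C0)
      + gf ⟨toPerm pV, toPerm_mem_M23 pV_ok⟩ (cw _ (inC_xor C1 C0)) (cw _ C3)
      + gf ⟨toPerm pV, toPerm_mem_M23 pV_ok⟩ (cw _ Ct') (cw _ C2) = 1 := by
    simp only [gf, act_cw pV_ok C0 (inC_mimg pV_ok C0) rfl, act_cw pV_ok C1 (inC_mimg pV_ok C1) rfl, act_cw pV_ok (inC_xor C1 C0) (inC_mimg pV_ok (inC_xor C1 C0)) rfl, act_cw pV_ok C2 (inC_mimg pV_ok C2) rfl, act_cw pV_ok Ct' (inC_mimg pV_ok Ct') rfl, act_cw pV_ok C3 (inC_mimg pV_ok C3) rfl]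
    unfold theta
    simp only [co_apply, cw]
    decide +kernel
  rw [gu] at ku
  rw [gv] at kv
  revert hf ku kv
  generalize eu.f (cw 13062145 C0) = a0
  generalize eu.f (cw 8675909 C1) = a1
  generalize eu.f (cw 8925710 C2) = a2
  generalize eu.f (cw 13303882 C3) = a3
  generalize ev.f (cw 13062145 C0) = b0
  generalize ev.f (cw 8675909 C1) = b1
  generalize ev.f (cw 8925710 C2) = b2
  generalize ev.f (cw 13303882 C3) = b3
  intro hf ku kv
  have hf' : a0 + a1 + a2 + a3 + (b1 + b0 + b3 + b2) = 0 := by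
    linear_combination hf + (a2 + a3 + b0 + b2 + b3) * two_zero
  rw [ku, kv, zero_add] at hf'
  exact one_ne_zero hf'

end CfsgLib.Golay.Cocode
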