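import Cfsg.Agent.Lib.Golay.Perm
import Mathlib

/-!
A function `theta` of two words, linear in the first and of degree two in the second, refining the
quarter weight of the words of the length-24 code.
-/

set_option autoImplicit false
set_option maxHeartbeats 400000

namespace CfsgLib.Golay.Cocode

open Cfsg

abbrev Word := GolayPt → ZMod 2

/-- row `i` of the systematic basis, as a word -/
def row (i : Fin 12) : Word := wd (rows[i.val]!)

/-- coordinate `i` -/
def co (i : Fin 12) : Word →ₗ[ZMod 2] ZMod 2 := LinearMap.proj (pt i.val)

theorem co_apply (i : Fin 12) (w : Word) : co i w = w (pt i.val) := rfl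

theorem row_mem (i : Fin 12) : row i ∈ golayCode := by
  have h : ∀ i : Fin 12, inC (rows[i.val]!) = true := by decide +kernel
  exact wd_mem_of_inC (h i)

theorem co_row (i j : Fin 12) : co i (row j) = if i = j then 1 else 0 := by
  simp only [co_apply]
  revert i j
  decide +kernel

/-- the combination of the rows with the coordinates of a word -/
def red (w : Word) : Word := ∑ i, co i w • row i

theorem red_mem (w : Word) : red w ∈ golayCode :=
  Submodule.sum_mem _ fun i _ => Submodule.smul_mem _ _ (row_mem i)

theorem red_add (v w : Word) : red (v + w) = red v + red w := by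
  simp [red, add_smul, Finset.sum_add_distrib]

theorem co_red (i : Fin 12) (w : Word) : co i (red w) = co i w := by
  simp [red, map_sum, co_row, Finset.sum_ite_eq]

theorem red_of_mem {w : Word} (h : w ∈ golayCode) : red w = w := by
  refine Submodule.span_induction (p := fun w _ => red w = w) ?_ ?_ ?_ ?_ h
  · have key : ∀ i : Fin 24, ∀ p : GolayPt,
        red (wd (gensMasks[i.val]!)) p = wd (gensMasks[i.val]!) p := by
      unfold red
      simp only [Finset.sum_apply, Pi.smul_apply, smul_eq_mul, co_apply]
      decide +kernel
    rintro x (⟨t, rfl⟩ | rfl)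
    · rw [qrWord_eq]; funext p; exact key ⟨t.val, Nat.lt_succ_of_lt (ZMod.val_lt t)⟩ p
    · rw [one_eq]; funext p; exact key ⟨23, by norm_num⟩ p
  · simp [red]
  · intro x y _ _ hx hy; rw [red_add, hx, hy]
  · intro c x _ hx
    rcases (show c = 0 ∨ c = 1 by revert c; decide) with rfl | rfl
    · simp [red]
    · simpa using hx

/-- a table of half intersections of the rows -/
def mTab : List ℕ := [0, 0, 0, 0, 0, 2, 16, 0, 1, 4, 8, 128]

/-- a table of triple intersections of the rows -/
def uTab : List ℕ := [0, 1824, 840, 1408, 3392, 448, 256, 2304, 3584, 2048, 0, 0, 1824, 0, 2600,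
  1072, 352, 4032, 640, 3072, 2048, 0, 0, 0, 840, 2600, 0, 1536, 1632, 768, 2560, 3840, 512, 3072,
  0, 0, 1412, 1076, 1536, 0, 1216, 3328, 1792, 3072, 1024, 3072, 2048, 0, 3392, 360, 1632, 1216, 0,
  2112, 3968, 2560, 512, 0, 0, 0, 450, 4060, 784, 3328, 2112, 0, 1024, 2560, 0, 1024, 0, 0, 308,
  688, 2576, 1808, 4000, 1024, 0, 2304, 0, 0, 2048, 0, 2344, 3168, 3840, 3088, 2624, 2560, 2304, 0,
  2048, 2048, 2048, 0, 3838, 2096, 672, 1120, 576, 0, 128, 2048, 0, 1024, 2048, 0, 2310, 100, 3576,
  3136, 448, 1152, 0, 2048, 1024, 0, 0, 0, 282, 168, 664, 3056, 64, 576, 2048, 2048, 2560, 0, 0, 0,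
  912, 420, 704, 1696, 224, 128, 1152, 1792, 1024, 0, 0, 0]

/-- strictly lower triangular coefficients -/
def mC (i j : Fin 12) : ZMod 2 := if (mTab[i.val]!).testBit j.val then 1 else 0

/-- coefficients supported on `k < l` -/
def uC (i k l : Fin 12) : ZMod 2 := if (uTab[12 * i.val + k.val]!).testBit l.val then 1 else 0

/-- the form -/
def theta (x y : Word) : ZMod 2 :=
  ∑ i, co i x * ((∑ j, co j y * mC i j) + ∑ k, ∑ l, co k y * co l y * uC i k l)

/-- the triple intersection parity -/
def tri (x y z : Word) : ZMod 2 := ∑ p, x p * y p * z p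

theorem tri_comm12 (x y z : Word) : tri x y z = tri y x z := by
  simp [tri, mul_comm (x _)]

theorem tri_comm23 (x y z : Word) : tri x y z = tri x z y := by
  simp [tri, mul_right_comm]

theorem uC_sym : ∀ i k l, uC i k l + uC i l k = tri (row i) (row k) (row l) := by
  unfold tri row
  decide +kernel

theorem theta_add_left (x x' y : Word) : theta (x + x') y = theta x y + theta x' y := by
  simp [theta, add_mul, Finset.sum_add_distrib]

theorem tri_red_left (x y z : Word) : tri (red x) y z = ∑ i, co i x * tri (row i) y z := by
  simp only [tri, red, Finset.sum_apply, Pi.smul_apply, smul_eq_mul, Finset.sum_mul, Finset.mul_sum,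
    mul_assoc]
  exact Finset.sum_comm

theorem tri_rot (x y z : Word) : tri x y z = tri y z x := by
  rw [tri_comm12, tri_comm23]

theorem tri_expand (x y z : Word) : tri (red x) (red y) (red z)
    = ∑ i, co i x * ∑ k, ∑ l, co k y * co l z * tri (row i) (row k) (row l) := by
  rw [tri_red_left]
  refine Finset.sum_congr rfl fun i _ => congrArg _ ?_
  rw [tri_rot, tri_red_left]
  refine Finset.sum_congr rfl fun k _ => ?_
  rw [tri_rot, tri_red_left, Finset.mul_sum]
  refine Finset.sum_congr rfl fun l _ => ?_
  rw [tri_rot, mul_assoc]

/-- polarisation of a quadratic polynomial -/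
theorem quad_add {ι R : Type*} [Fintype ι] [CommRing R] (y z M : ι → R) (U : ι → ι → R) :
    (∑ j, (y j + z j) * M j) + ∑ k, ∑ l, (y k + z k) * (y l + z l) * U k l
      = ((∑ j, y j * M j) + ∑ k, ∑ l, y k * y l * U k l)
        + ((∑ j, z j * M j) + ∑ k, ∑ l, z k * z l * U k l)
        + ∑ k, ∑ l, y k * z l * (U k l + U l k) := by
  have h2 : ∀ k l, (y k + z k) * (y l + z l) * U k l = y k * y l * U k l + z k * z l * U k l
      + y k * z l * U k l + z k * y l * U k l := fun k l => by ring
  have h3 : (∑ k, ∑ l, z k * y l * U k l) = ∑ k, ∑ l, y k * z l * U l k := by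
    rw [Finset.sum_comm]
    exact Finset.sum_congr rfl fun k _ => Finset.sum_congr rfl fun l _ => by ring
  simp only [h2, Finset.sum_add_distrib, add_mul, mul_add, h3]
  abel

theorem theta_add_right (x y z : Word) :
    theta x (y + z) = theta x y + theta x z + tri (red x) (red y) (red z) := by
  rw [tri_expand, theta, theta, theta, ← Finset.sum_add_distrib, ← Finset.sum_add_distrib]
  refine Finset.sum_congr rfl fun i _ => ?_
  rw [← mul_add, ← mul_add]
  refine congrArg _ ?_
  have e : (∑ k, ∑ l, co k y * co l z * tri (row i) (row k) (row l))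
      = ∑ k, ∑ l, co k y * co l z * (uC i k l + uC i l k) :=
    Finset.sum_congr rfl fun k _ => Finset.sum_congr rfl fun l _ => by rw [uC_sym]
  rw [e]
  simp only [map_add]
  exact quad_add (fun j => co j y) (fun j => co j z) (mC i) (uC i)

theorem theta_zero_left (y : Word) : theta 0 y = 0 := by simp [theta]

theorem theta_zero_right (x : Word) : theta x 0 = 0 := by simp [theta]

/-- `ZMod 2` inside `ZMod 8` -/
def lift8 (a : ZMod 2) : ZMod 8 := if a = 1 then 1 else 0

/-- four times a parity, modulo 8 -/
def four : ZMod 2 →+ ZMod 8 where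
  toFun a := if a = 1 then 4 else 0
  map_zero' := by decide
  map_add' := by decide

/-- the weight modulo 8 -/
def wt8 (w : Word) : ZMod 8 := ∑ p, lift8 (w p)

/-- twice the intersection modulo 8 -/
def meet8 (v w : Word) : ZMod 8 := ∑ p, 2 * (lift8 (v p) * lift8 (w p))

theorem lift8_add : ∀ a b, lift8 (a + b) = lift8 a + lift8 b - 2 * (lift8 a * lift8 b) := by decide

theorem wt8_add (v w : Word) : wt8 (v + w) = wt8 v + wt8 w - meet8 v w := by
  simp [wt8, meet8, lift8_add, Finset.sum_add_distrib, Finset.sum_sub_distrib]

theorem meet8_add (v v' w : Word) :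
    meet8 (v + v') w = meet8 v w + meet8 v' w + four (tri v v' w) := by
  have h : ∀ a b c, 2 * (lift8 (a + b) * lift8 c)
      = 2 * (lift8 a * lift8 c) + 2 * (lift8 b * lift8 c) + four (a * b * c) := by decide
  simp only [meet8, tri, map_sum, Pi.add_apply, h, Finset.sum_add_distrib]

theorem meet8_row : ∀ i j, meet8 (row j) (row i) = four (theta (row j) (row i) + theta (row i) (row j)) := by
  unfold meet8 theta row
  simp only [co_apply]
  decide +kernel

theorem wt8_row : ∀ i, wt8 (row i) = four (theta (row i) (row i)) := by
  unfold wt8 theta row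
  simp only [co_apply]
  decide +kernel

theorem meet8_eq_row {a : Word} (ha : a ∈ golayCode) (i : Fin 12) :
    meet8 a (row i) = four (theta a (row i) + theta (row i) a) := by
  have key : ∀ s : Finset (Fin 12), meet8 (∑ j ∈ s, co j a • row j) (row i)
      = four (theta (∑ j ∈ s, co j a • row j) (row i) + theta (row i) (∑ j ∈ s, co j a • row j)) := by
    intro s
    induction s using Finset.induction_on with
    | empty => simp [meet8, lift8, theta_zero_left, theta_zero_right]
    | insert j s hj ih =>
      rw [Finset.sum_insert hj]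
      rcases (show ∀ c : ZMod 2, c = 0 ∨ c = 1 by decide) (co j a) with hc | hc
      · simpa [hc] using ih
      · rw [hc, one_smul]
        have hm : (∑ j ∈ s, co j a • row j) ∈ golayCode :=
          Submodule.sum_mem _ fun k _ => Submodule.smul_mem _ _ (row_mem k)
        generalize (∑ j ∈ s, co j a • row j) = b at hm ih ⊢
        rw [meet8_add, ih, meet8_row, theta_add_left, theta_add_right, red_of_mem (row_mem i),
          red_of_mem (row_mem j), red_of_mem hm, tri_rot (row i) (row j) b]
        simp only [map_add]
        abel
  have := key Finset.univ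
  rwa [show (∑ j, co j a • row j) = a from red_of_mem ha] at this

theorem four_neg : ∀ a, - four a = four a := by decide

theorem dot_row : ∀ i j, (∑ p, row i p * row j p) = 0 := by
  unfold row
  decide +kernel

theorem dot_eq_zero {v w : Word} (hv : v ∈ golayCode) (hw : w ∈ golayCode) :
    (∑ p, v p * w p) = 0 := by
  rw [← red_of_mem hv, ← red_of_mem hw]
  simp only [red, Finset.sum_apply, Pi.smul_apply, smul_eq_mul, Finset.sum_mul, Finset.mul_sum]
  rw [Finset.sum_comm]
  refine Finset.sum_eq_zero fun i _ => ?_
  rw [Finset.sum_comm]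
  refine Finset.sum_eq_zero fun j _ => ?_
  have h' : ∀ p, co j v * row j p * (co i w * row i p) = (co j v * co i w) * (row j p * row i p) :=
    fun p => by ring
  rw [Finset.sum_congr rfl (fun p _ => h' p), ← Finset.mul_sum, dot_row, mul_zero]

theorem tri_self {v w : Word} (hv : v ∈ golayCode) (hw : w ∈ golayCode) : tri v v w = 0 := by
  rw [← dot_eq_zero hv hw, tri]
  exact Finset.sum_congr rfl fun p _ => by
    rw [show v p * v p = v p from (show ∀ c : ZMod 2, c * c = c by decide) _]

/-- the diagonal of `theta` is the quarter weight -/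
theorem four_theta_self {a : Word} (ha : a ∈ golayCode) : four (theta a a) = wt8 a := by
  have key : ∀ s : Finset (Fin 12), four (theta (∑ j ∈ s, co j a • row j) (∑ j ∈ s, co j a • row j))
      = wt8 (∑ j ∈ s, co j a • row j) := by
    intro s
    induction s using Finset.induction_on with
    | empty => simp [wt8, lift8, theta_zero_left]
    | insert j s hj ih =>
      rw [Finset.sum_insert hj]
      rcases (show ∀ c : ZMod 2, c = 0 ∨ c = 1 by decide) (co j a) with hc | hc
      · simpa [hc] using ih
      · rw [hc, one_smul]
        have hm : (∑ j ∈ s, co j a • row j) ∈ golayCode :=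
          Submodule.sum_mem _ fun k _ => Submodule.smul_mem _ _ (row_mem k)
        generalize (∑ j ∈ s, co j a • row j) = b at hm ih ⊢
        have e : theta (row j + b) (row j + b) = theta (row j) (row j) + theta b b
            + (theta b (row j) + theta (row j) b) := by
          rw [theta_add_left, theta_add_right, theta_add_right, red_of_mem (row_mem j),
            red_of_mem hm, tri_self (row_mem j) hm, tri_comm23 b (row j) b,
            tri_self hm (row_mem j)]
          abel
        rw [e, map_add, map_add, ← meet8_eq_row hm, ih, ← wt8_row, wt8_add]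
        have : meet8 (row j) b = meet8 b (row j) := by simp [meet8, mul_comm (lift8 (row j _))]
        rw [this, sub_eq_add_neg, meet8_eq_row hm, four_neg]
  have := key Finset.univ
  rwa [show (∑ j, co j a • row j) = a from red_of_mem ha] at this

end CfsgLib.Golay.Cocode
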